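import Cfsg.Agent.H916.RG.Pair_m3
import Cfsg.Agent.H878.EPX.FiK
import Cfsg.Agent.R08.AutT
import Cfsg.Prelude.Def_Classification2
import Cfsg.Prelude.Def_EvenType
import Cfsg.Agent.H341.ThreeList_m3
import Cfsg.Agent.ChevalleyStructure.ReeCount
import Cfsg.Agent.Cit.TypeDet.Mathieu
import Cfsg.Agent.H732.USixDiag
import Cfsg.Agent.H233.Simple
import Cfsg.Agent.H818.StrP.Row_m3
import Cfsg.Agent.Schreier.Basic
import Cfsg.Agent.R01.Fi22Facts
import Cfsg.Agent.S0283
import Cfsg.Agent.H973.RG.Ix
import Cfsg.Agent.FastGrp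
import Cfsg.Agent.Prune
set_option linter.all false

section
prune_inst 0x7ffdfefbbff8f9deffff7e7ffffddffffdffffffffdffbfbfffdfbffbfff6b6ffbf5fbafffefd8ffbef7f2be32f87bfbf9ffceffeffbdc7fffff5ff47fffff9fffffbfad75f7bc3e1ffe6ffffbfbffce7f3fffffffffffffffffffffffffffffffffffffffff

-- part: H86/RG/Fam
section
prune_inst 0x2010440070400000001800002000002000000002004000002040040009490040a00100000250041000000cc06000002003000000421000000a00800000040000040120a0803c1c00110000404003180c00000000000000000000000000000000000000000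
set_option linter.all false
open scoped Cfsg.Agent.FastGrp

/-!
# S3509, rows `Fi23` and `Fi24'`: general lemmas on covers (helper86)

* `not_alt` : a group of order `N`, `k! < 2 N < (k+1)!`, is not alternating;
* `mruleQ` : the M-rule for a quasisimple subgroup;
* `Dead Ω D` : no cover by a commuting family commutes with a member of `D`;
* `repl_one`, `repl_two` : replacement of one or two members by commutators.
-/

set_option autoImplicit false
open Cfsg

namespace Cfsg.Agent.H86.RG

open MulAction Subgroup Cfsg.Agent.H106.RC Cfsg.Agent.H873.RG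

/-! ### Alternating groups have the wrong order -/

theorem not_alt {H : Type*} [Group H] {k : ℕ} (h1 : k.factorial < 2 * Nat.card H)
    (h2 : 2 * Nat.card H < (k + 1).factorial) : ¬ IsAlternating H := by
  rintro ⟨n, hn, ⟨e⟩⟩
  have h3 : 2 * Nat.card H = n.factorial := by
    have : Nontrivial (Fin n) := Fin.nontrivial_iff_two_le.2 (by omega)
    rw [Nat.card_congr e.toEquiv, Nat.card_eq_fintype_card, two_mul_card_alternatingGroup, Fintype.card_perm, Fintype.card_fin]
  rw [h3] at h1 h2
  have h4 : k < n := by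
    by_contra h
    exact absurd (Nat.factorial_le (not_lt.1 h)) (not_le.2 h1)
  have h5 : n < k + 1 := by
    by_contra h
    exact absurd (Nat.factorial_le (not_lt.1 h)) (not_le.2 h2)
  omega

/-! ### The M-rule for a quasisimple subgroup -/

theorem comm_of_perfect {G : Type*} [Group G] {M : Subgroup G} (h : Group.IsPerfect M) : ⁅M, M⁆ = M := by
  have h1 := h.commutator_eq_top
  have h2 : (commutator M).map M.subtype = ⁅M, M⁆ := by
    rw [commutator_def, Subgroup.map_commutator, ← MonoidHom.range_eq_map, Subgroup.range_subtype]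
  rw [← h2, h1, ← MonoidHom.range_eq_map, Subgroup.range_subtype]

theorem nsa_of_quasi {M : Type*} [Group M] (hq : IsQuasisimple M) (hna : ¬ IsAlternating (M ⧸ center M)) :
    NSA (M ⧸ center M) := by
  refine ⟨hq.2, fun hc => ?_, hna⟩
  have hs := hq.2
  have h1 := hq.1.commutator_eq_top
  have h2 : commutator (M ⧸ center M) = ⊤ := by
    have h4 : (commutator M).map (QuotientGroup.mk' (center M)) = commutator (M ⧸ center M) := by
      rw [commutator_def, commutator_def, Subgroup.map_commutator, ← MonoidHom.range_eq_map,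
        MonoidHom.range_eq_top.2 (QuotientGroup.mk'_surjective _)]
    rw [← h4, h1, ← MonoidHom.range_eq_map, MonoidHom.range_eq_top.2 (QuotientGroup.mk'_surjective _)]
  have h3 : commutator (M ⧸ center M) = ⊥ := by
    rw [commutator_eq_bot_iff_center_eq_top]
    rw [eq_top_iff]
    intro a _
    rw [mem_center_iff]
    intro b
    exact hc.is_comm.comm _ _
  rw [h2] at h3
  have := hs.toNontrivial
  exact absurd h3 top_ne_bot

/-- **M-rule** for a quasisimple subgroup of `N` -/
theorem mruleQ {G S Ω ι : Type} [Group G] [Finite G] [Group S] [Finite S] [MulAction G Ω] [Finite ι]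
    (hIH : IHx (Nat.card S)) {N : Subgroup G} (e : N ≃* S) {M : Subgroup G} (hMN : M ≤ N) (hne : M ≠ N)
    (hq : IsQuasisimple M) (hna : ¬ IsAlternating (M ⧸ center M)) {x : ι → G} {r : ι → ℕ} (hx : PF x r)
    (hcov : Cov Ω x) (hnorm : ∀ i, x i ∈ Subgroup.normalizer (M : Set G)) (ω : Ω) :
    M ≤ stabilizer G ω ∨ ∃ j, (∀ m ∈ M, x j * m = m * x j) ∧ x j • ω = ω :=
  mrule_IHx hIH e hMN hne (comm_of_perfect hq.1) (QuotientGroup.mk' (center M)) (QuotientGroup.mk'_surjective _)
    (by rw [QuotientGroup.ker_mk']) (nsa_of_quasi hq hna) hx hcov hnorm ω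

/-! ### Replacement -/

section repl

variable {G Ω ι : Type*} [Group G] [MulAction G Ω]

/-- no cover by a commuting family commutes with a member of `D` -/
def Dead (Ω ι : Type*) [MulAction G Ω] (D : Set G) : Prop :=
  ∀ (x : ι → G) (r : ι → ℕ), PF x r → Cov Ω x → ∀ d ∈ D, (∀ i, d * x i = x i * d) → False

open Classical in
theorem pf_update {x : ι → G} {r : ι → ℕ} (h : PF x r) (i : ι) {y : G} {p : ℕ} (hp : p.Prime)
    (hpr : ∀ j, j ≠ i → r j ≠ p) (hy : y ^ p = 1) (hy1 : y ≠ 1) (hc : ∀ j, j ≠ i → y * x j = x j * y) :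
    PF (Function.update x i y) (Function.update r i p) := by
  refine ⟨fun j => ?_, fun j k hjk => ?_, fun j => ?_, fun j => ?_, fun j k => ?_⟩
  · by_cases hj : j = i
    · subst hj; rw [Function.update_self]; exact hp
    · rw [Function.update_of_ne hj]; exact h.prime j
  · by_cases hj : j = i
    · subst hj
      by_cases hk : k = j
      · exact hk.symm
      · rw [Function.update_self, Function.update_of_ne hk] at hjk
        exact absurd hjk.symm (hpr k hk)
    · by_cases hk : k = i
      · subst hk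
        rw [Function.update_self, Function.update_of_ne hj] at hjk
        exact absurd hjk (hpr j hj)
      · rw [Function.update_of_ne hj, Function.update_of_ne hk] at hjk
        exact h.inj hjk
  · by_cases hj : j = i
    · subst hj; rw [Function.update_self, Function.update_self]; exact hy
    · rw [Function.update_of_ne hj, Function.update_of_ne hj]; exact h.pow j
  · by_cases hj : j = i
    · subst hj; rw [Function.update_self]; exact hy1
    · rw [Function.update_of_ne hj]; exact h.ne j
  · by_cases hj : j = i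
    · subst hj
      by_cases hk : k = j
      · subst hk; rfl
      · rw [Function.update_self, Function.update_of_ne hk]; exact hc k hk
    · by_cases hk : k = i
      · subst hk
        rw [Function.update_self, Function.update_of_ne hj]; exact (hc j hj).symm
      · rw [Function.update_of_ne hj, Function.update_of_ne hk]; exact h.comm j k

theorem comm_cm {c x z : G} (hc : c * z = z * c) (hx : x * z = z * x) :
    (c * x * c⁻¹ * x⁻¹) * z = z * (c * x * c⁻¹ * x⁻¹) :=
  ((((show Commute c z from hc).mul_left hx).mul_left ((show Commute c z from hc).inv_left)).mul_left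
    ((show Commute x z from hx).inv_left)).eq

/-- **replacement of one member** by a commutator which is dead -/
theorem repl_one {D : Set G} (hD : Dead Ω ι D) {x : ι → G} {r : ι → ℕ} (hx : PF x r) (h : Cov Ω x) (i : ι) {c : G}
    (hc : ∀ j, j ≠ i → c * x j = x j * c) {p : ℕ} (hp : p.Prime) (hpr : ∀ j, j ≠ i → r j ≠ p)
    (hy : (c * x i * c⁻¹ * (x i)⁻¹) ^ p = 1) (hy1 : c * x i * c⁻¹ * (x i)⁻¹ ≠ 1) {d : G} (hd : d ∈ D)
    (hdy : d * (c * x i * c⁻¹ * (x i)⁻¹) = (c * x i * c⁻¹ * (x i)⁻¹) * d) (hdx : ∀ j, j ≠ i → d * x j = x j * d) :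
    False := by
  classical
  refine hD _ _ (pf_update hx i hp hpr hy hy1 fun j hj => comm_cm (hc j hj) (hx.comm i j))
    (by convert h.mv_comm i hc) d hd fun j => ?_
  by_cases hj : j = i
  · subst hj; rw [Function.update_self]; exact hdy
  · rw [Function.update_of_ne hj]; exact hdx j hj

/-- **replacement of two members** by commutators: first `x i` by `y = [c, x i]`, then `x j` by `s = [b, x j]` -/
theorem repl_two {D : Set G} (hD : Dead Ω ι D) {x : ι → G} {r : ι → ℕ} (hx : PF x r) (h : Cov Ω x) {i j : ι} (hij : i ≠ j)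
    (hri : r i = 3) (hrj : r j = 2) {c b y s : G} (hy0 : y = c * x i * c⁻¹ * (x i)⁻¹) (hs0 : s = b * x j * b⁻¹ * (x j)⁻¹)
    (hc : ∀ k, k ≠ i → c * x k = x k * c) (hbx : ∀ k, k ≠ i → k ≠ j → b * x k = x k * b) (hby : b * y = y * b)
    (hy : y ^ 2 = 1) (hy1 : y ≠ 1) (hs : s ^ 3 = 1) (hs1 : s ≠ 1) (hsy : s * y = y * s)
    {d : G} (hd : d ∈ D) (hdy : d * y = y * d) (hds : d * s = s * d)
    (hdx : ∀ k, k ≠ i → k ≠ j → d * x k = x k * d) : False := by
  classical
  have hc1 : Cov Ω (Function.update x i y) := by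
    rw [hy0]; convert h.mv_comm i hc
  have hj1 : Function.update x i y j = x j := Function.update_of_ne hij.symm _ _
  have hc2 : Cov Ω (Function.update (Function.update x i y) j s) := by
    have h1 := hc1.mv_comm j (c := b) (fun k hk => by
      by_cases hki : k = i
      · subst hki; rw [Function.update_self]; exact hby
      · rw [Function.update_of_ne hki]; exact hbx k hki hk)
    rw [hj1, ← hs0] at h1
    convert h1
  -- the orders
  have hcomm : ∀ k, k ≠ i → k ≠ j → y * x k = x k * y ∧ s * x k = x k * s := by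
    intro k hki hkj
    refine ⟨?_, ?_⟩
    · rw [hy0]; exact comm_cm (hc k hki) (hx.comm i k)
    · rw [hs0]; exact comm_cm (hbx k hki hkj) (hx.comm j k)
  let x' := Function.update (Function.update x i y) j s
  let r' := Function.update (Function.update r i 2) j 3
  have xi : x' i = y := by
    show Function.update (Function.update x i y) j s i = y
    rw [Function.update_of_ne hij, Function.update_self]
  have xj : x' j = s := Function.update_self _ _ _
  have xk : ∀ k, k ≠ i → k ≠ j → x' k = x k := fun k h1 h2 => by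
    show Function.update (Function.update x i y) j s k = x k
    rw [Function.update_of_ne h2, Function.update_of_ne h1]
  have ri : r' i = 2 := by
    show Function.update (Function.update r i 2) j 3 i = 2
    rw [Function.update_of_ne hij, Function.update_self]
  have rj : r' j = 3 := Function.update_self _ _ _
  have rk : ∀ k, k ≠ i → k ≠ j → r' k = r k := fun k h1 h2 => by
    show Function.update (Function.update r i 2) j 3 k = r k
    rw [Function.update_of_ne h2, Function.update_of_ne h1]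
  have r3 : ∀ k, k ≠ i → k ≠ j → r k ≠ 3 ∧ r k ≠ 2 := fun k h1 h2 =>
    ⟨fun h3 => h1 (hx.inj (h3.trans hri.symm)), fun h3 => h2 (hx.inj (h3.trans hrj.symm))⟩
  have hPF : PF x' r' := by
    refine ⟨fun k => ?_, fun k l hkl => ?_, fun k => ?_, fun k => ?_, fun k l => ?_⟩
    · by_cases h1 : k = i
      · rw [h1, ri]; exact Nat.prime_two
      by_cases h2 : k = j
      · rw [h2, rj]; exact Nat.prime_three
      rw [rk k h1 h2]; exact hx.prime k
    · by_cases h1 : k = i
      · by_cases h3 : l = i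
        · rw [h1, h3]
        by_cases h4 : l = j
        · rw [h1, h4, ri, rj] at hkl; exact absurd hkl (by norm_num)
        rw [h1, ri, rk l h3 h4] at hkl
        exact absurd hkl.symm (r3 l h3 h4).2
      by_cases h2 : k = j
      · by_cases h3 : l = i
        · rw [h2, h3, ri, rj] at hkl; exact absurd hkl (by norm_num)
        by_cases h4 : l = j
        · rw [h2, h4]
        rw [h2, rj, rk l h3 h4] at hkl
        exact absurd hkl.symm (r3 l h3 h4).1
      rw [rk k h1 h2] at hkl
      by_cases h3 : l = i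
      · rw [h3, ri] at hkl; exact absurd hkl (r3 k h1 h2).2
      by_cases h4 : l = j
      · rw [h4, rj] at hkl; exact absurd hkl (r3 k h1 h2).1
      rw [rk l h3 h4] at hkl
      exact hx.inj hkl
    · by_cases h1 : k = i
      · rw [h1, xi, ri]; exact hy
      by_cases h2 : k = j
      · rw [h2, xj, rj]; exact hs
      rw [xk k h1 h2, rk k h1 h2]; exact hx.pow k
    · by_cases h1 : k = i
      · rw [h1, xi]; exact hy1
      by_cases h2 : k = j
      · rw [h2, xj]; exact hs1
      rw [xk k h1 h2]; exact hx.ne k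
    · by_cases h1 : k = i
      · by_cases h3 : l = i
        · rw [h1, h3]
        by_cases h4 : l = j
        · rw [h1, h4, xi, xj]; exact hsy.symm
        rw [h1, xi, xk l h3 h4]; exact (hcomm l h3 h4).1
      by_cases h2 : k = j
      · by_cases h3 : l = i
        · rw [h2, h3, xi, xj]; exact hsy
        by_cases h4 : l = j
        · rw [h2, h4]
        rw [h2, xj, xk l h3 h4]; exact (hcomm l h3 h4).2
      rw [xk k h1 h2]
      by_cases h3 : l = i
      · rw [h3, xi]; exact ((hcomm k h1 h2).1).symm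
      by_cases h4 : l = j
      · rw [h4, xj]; exact ((hcomm k h1 h2).2).symm
      rw [xk l h3 h4]; exact hx.comm k l
  refine hD x' r' hPF hc2 d hd fun k => ?_
  by_cases h1 : k = i
  · rw [h1, xi]; exact hdy
  by_cases h2 : k = j
  · rw [h2, xj]; exact hds
  rw [xk k h1 h2]; exact hdx k h1 h2

/-- conjugate of a cover -/
theorem Cov.conj {x : ι → G} (h : Cov Ω x) (g : G) : Cov Ω (fun i => g * x i * g⁻¹) := by
  intro ω
  obtain ⟨i, hi⟩ := h (g⁻¹ • ω)
  refine ⟨i, ?_⟩
  show (g * x i * g⁻¹) • ω = ω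
  rw [mul_smul, mul_smul, hi, smul_inv_smul]

theorem PF.conj {x : ι → G} {r : ι → ℕ} (h : PF x r) (g : G) : PF (fun i => g * x i * g⁻¹) r := by
  refine ⟨h.prime, h.inj, fun i => ?_, fun i h1 => h.ne i ?_, fun i j => ?_⟩
  · rw [conj_pow, h.pow, mul_one, mul_inv_cancel]
  · exact conj_eq_one_iff.1 h1
  · show g * x i * g⁻¹ * (g * x j * g⁻¹) = g * x j * g⁻¹ * (g * x i * g⁻¹)
    calc g * x i * g⁻¹ * (g * x j * g⁻¹) = g * (x i * x j) * g⁻¹ := by group
      _ = g * (x j * x i) * g⁻¹ := by rw [h.comm]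
      _ = _ := by group

end repl

end Cfsg.Agent.H86.RG
end

-- part: H895/RG/Pair
section
prune_inst 0x2000000000000000000040000000000000000000000000000000000000000000000000000000000000000000000000000000000000000000000000000000000
set_option linter.all false
open scoped Cfsg.Agent.FastGrp

-- part: H895/RG/Pt
section
/-!
# S3509, row `Fi22`: the 3510 points are the transpositions (helper895)

`tau p` : the transposition of the point `p`; `pt_smul` : `m (tau p) m⁻¹ = tau (rho m p)`; `nc p q` : the transpositions of `p`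
and `q` do not commute.
-/

set_option autoImplicit false
set_option maxRecDepth 1000000
set_option exponentiation.threshold 5000

namespace Cfsg.Agent.H895.RG.Fi22

open Cfsg Cfsg.Spor Cfsg.Agent.H123.Cls Cfsg.Agent.Lib.BitNet
open Cfsg.Agent.H494.F22 (rho rho_gen rho_injective S S_val N N_le_Aut)
open Cfsg.Agent.H494.F22.Row (row)
open Cfsg.Agent.Lib.BitNetSimple (force force_eq tb tb_eq)
open Cfsg.Agent.R01.Fi22Facts (T ncard_T trans_commuting trans_noncommuting gen_mem)
open Cfsg.Agent.Fischer.Fi22PtsRep (gen)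

/-- the transpositions of the points do not commute -/
def nc (p q : Fin 3510) : Prop := (row p).testBit q = true

theorem nc_aut {σ : Equiv.Perm (Fin 3510)} (hσ : σ ∈ Aut 3510 row) (p q : Fin 3510) : nc (σ p) (σ q) ↔ nc p q := by
  unfold nc
  rw [hσ p q]

theorem rho_mem (m : Spor.Fi22) : rho m ∈ Aut 3510 row := N_le_Aut ⟨m, rfl⟩

/-- `t` is the transposition of the point `p` -/
def Rel (t : Spor.Fi22) (p : Fin 3510) : Prop := ∀ q : Fin 3510, nc p q ↔ rho t q ≠ q

theorem Rel.conj {t : Spor.Fi22} {p : Fin 3510} (h : Rel t p) (m : Spor.Fi22) : Rel (m * t * m⁻¹) (rho m p) := by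
  intro q
  obtain ⟨q, rfl⟩ := (rho m).surjective q
  rw [nc_aut (rho_mem m), h q, map_mul, map_mul, map_inv]
  show rho t q ≠ q ↔ rho m (rho t ((rho m)⁻¹ (rho m q))) ≠ rho m q
  rw [show (rho m)⁻¹ (rho m q) = q from Equiv.symm_apply_apply _ q, (rho m).injective.ne_iff]

/-- the row of `p` is the support of the table `t` -/
noncomputable def chkSup (t p : ℕ) : Bool :=
  force (row p) fun m => allN (fun q => xor (tb m q) (Nat.beq (lk 12 t q) q)) 3510

theorem rel_of_chk {x : ℕ} (hx : x < 9) {p : ℕ} (hp : p < 3510) (h : chkSup (nth FiDat.gens x) p = true) :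
    Rel (PresentedGroup.of (FiDat.gn x)) ⟨p, hp⟩ := by
  intro q
  unfold chkSup at h
  rw [force_eq] at h
  have h1 := (allN_iff _ _).1 h q q.2
  rw [tb_eq] at h1
  have h2 := FiDat.gn_tab hx q
  have h3 : rho (PresentedGroup.of (FiDat.gn x)) q = q ↔ lk 12 (nth FiDat.gens x) q = q := by
    rw [← h2]
    exact Fin.ext_iff
  show (row p).testBit q = true ↔ _
  rw [ne_eq, h3, ← Nat.beq_eq]
  revert h1
  cases (row p).testBit (q : ℕ) <;> cases Nat.beq (lk 12 (nth FiDat.gens x) q) q <;> simp

theorem sup0 : chkSup (nth FiDat.gens 0) 0 = true := by decide +kernel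
theorem sup1 : chkSup (nth FiDat.gens 1) 14 = true := by decide +kernel
theorem sup2 : chkSup (nth FiDat.gens 2) 12 = true := by decide +kernel

/-- the first three points -/
def P0 : Fin 3510 := ⟨0, by norm_num⟩
def P1 : Fin 3510 := ⟨14, by norm_num⟩
def P2 : Fin 3510 := ⟨12, by norm_num⟩

theorem rel0 : Rel (gen .a) P0 := (rel_of_chk (by norm_num) _ sup0 :)
theorem rel1 : Rel (gen .b) P1 := (rel_of_chk (by norm_num) _ sup1 :)
theorem rel2 : Rel (gen .c) P2 := (rel_of_chk (by norm_num) _ sup2 :)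

theorem row_chk : and (tb (row 0) 14) (and (not (tb (row 14) 14)) (and (tb (row 12) 10) (not (tb (row 0) 10)))) = true := by
  decide +kernel

theorem rows : nc P0 P1 ∧ ¬ nc P1 P1 ∧ nc P2 ⟨10, by norm_num⟩ ∧ ¬ nc P0 ⟨10, by norm_num⟩ := by
  have h := row_chk
  simp only [tb_eq, Bool.and_eq_true, Bool.not_eq_true'] at h
  refine ⟨h.1, ?_, h.2.2.1, ?_⟩
  · intro h'
    rw [nc] at h'
    exact absurd (h'.symm.trans h.2.1) (by simp)
  · intro h'
    rw [nc] at h'
    exact absurd (h'.symm.trans h.2.2.2) (by simp)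

theorem exists_rel {t : Spor.Fi22} (ht : t ∈ T) : ∃ p, Rel t p := by
  obtain ⟨m, rfl⟩ := isConj_iff.1 (show IsConj (gen .a) t from ht)
  exact ⟨_, rel0.conj m⟩

/-- the point determines the transposition -/
theorem rel_inj {t t' : Spor.Fi22} (ht : t ∈ T) (ht' : t' ∈ T) {p : Fin 3510} (h : Rel t p) (h' : Rel t' p) : t = t' := by
  by_contra hne
  by_cases hc : Commute t t'
  · obtain ⟨k, hk, hk'⟩ := trans_commuting t ht t' ht' (gen .a) (gen_mem .a) (gen .c) (gen_mem .c) hne (fun h0 => by
      have h1 := (rel2 ⟨10, by norm_num⟩).1 rows.2.2.1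
      rw [← h0] at h1
      exact rows.2.2.2 ((rel0 _).2 h1)) hc (Cfsg.Agent.Fischer.Fi22PtsRep.gen_comm (by decide))
    have h1 := h.conj k
    have h2 := h'.conj k
    rw [hk] at h1
    rw [hk'] at h2
    exact rows.2.2.2 ((rel0 _).2 ((h1 _).1 ((h2 _).2 ((rel2 ⟨10, by norm_num⟩).1 rows.2.2.1))))
  · obtain ⟨k, hk, hk'⟩ := trans_noncommuting t ht t' ht' (gen .a) (gen_mem .a) (gen .b) (gen_mem .b) hc
      (fun h0 => Cfsg.Agent.Fischer.Fi22Order.ab_ne h0)
    have h1 := h.conj k
    have h2 := h'.conj k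
    rw [hk] at h1
    rw [hk'] at h2
    exact rows.2.1 ((rel1 _).2 ((h2 _).1 ((h1 _).2 ((rel0 P1).1 rows.1))))

/-- every point is the point of a transposition -/
theorem exists_tau (p : Fin 3510) : ∃ t ∈ T, Rel t p := by
  classical
  choose f hf using fun t : T => exists_rel t.2
  have hinj : Function.Injective f := fun t t' h =>
    Subtype.ext (rel_inj t.2 t'.2 (hf t) (by rw [h]; exact hf t'))
  have hfin : Finite T := Finite.of_injective f hinj
  have := Fintype.ofFinite T
  have hcard : Fintype.card T = Fintype.card (Fin 3510) := by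
    rw [Fintype.card_fin, ← Nat.card_eq_fintype_card, Nat.card_coe_set_eq]
    exact ncard_T
  obtain ⟨t, ht⟩ := ((Fintype.bijective_iff_injective_and_card f).2 ⟨hinj, hcard⟩).2 p
  exact ⟨t, t.2, ht ▸ hf t⟩

/-- the transposition of a point -/
noncomputable def tau (p : Fin 3510) : Spor.Fi22 := (exists_tau p).choose

theorem tau_mem (p : Fin 3510) : tau p ∈ T := (exists_tau p).choose_spec.1

theorem tau_rel (p : Fin 3510) : Rel (tau p) p := (exists_tau p).choose_spec.2

theorem nc_iff {p q : Fin 3510} : nc p q ↔ rho (tau p) q ≠ q := tau_rel p q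

theorem tau_of_rel {t : Spor.Fi22} (ht : t ∈ T) {p : Fin 3510} (h : Rel t p) : tau p = t :=
  rel_inj (tau_mem p) ht (tau_rel p) h

theorem tau_conj (m : Spor.Fi22) (p : Fin 3510) : m * tau p * m⁻¹ = tau (rho m p) := by
  refine (tau_of_rel ?_ ((tau_rel p).conj m)).symm
  exact Cfsg.Agent.R08.AutT.tFacts.conj _ _ (tau_mem p)

theorem tau_inj {p q : Fin 3510} (h : tau p = tau q) : p = q := by
  -- the points are counted by the transpositions
  classical
  have hsurj : Function.Surjective (fun p : Fin 3510 => (⟨tau p, tau_mem p⟩ : T)) := by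
    rintro ⟨t, ht⟩
    obtain ⟨p, hp⟩ := exists_rel ht
    exact ⟨p, Subtype.ext (tau_of_rel ht hp)⟩
  have hfin : Finite T := Finite.of_surjective _ hsurj
  have := Fintype.ofFinite T
  have hcard : Fintype.card (Fin 3510) = Fintype.card T := by
    rw [Fintype.card_fin, ← Nat.card_eq_fintype_card, Nat.card_coe_set_eq]
    exact ncard_T.symm
  exact ((Fintype.bijective_iff_surjective_and_card _).2 ⟨hsurj, hcard⟩).1 (Subtype.ext h)

theorem exists_pt {t : Spor.Fi22} (ht : t ∈ T) : ∃ p, tau p = t := by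
  obtain ⟨p, hp⟩ := exists_rel ht
  exact ⟨p, tau_of_rel ht hp⟩

theorem tau_sq (p : Fin 3510) : tau p * tau p = 1 := Cfsg.Agent.R08.AutT.tFacts.sq _ (tau_mem p)

theorem tau_ne (p : Fin 3510) : tau p ≠ 1 := by
  intro h
  obtain ⟨m, hm⟩ := isConj_iff.1 (show IsConj (gen .a) (tau p) from tau_mem p)
  rw [h, conj_eq_one_iff] at hm
  apply Cfsg.Agent.Fischer.Fi22Order.ab_ne
  rw [hm, one_mul, mul_one]

/-- commuting transpositions -/
theorem comm_iff {p q : Fin 3510} : tau p * tau q = tau q * tau p ↔ ¬ nc p q := by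
  rw [nc_iff, not_not]
  constructor
  · intro h
    apply tau_inj
    rw [← tau_conj, h, mul_inv_cancel_right]
  · intro h
    have h1 := tau_conj (tau p) q
    rw [h, mul_inv_eq_iff_eq_mul] at h1
    exact h1

/-- `Fi22` is transitive on the points -/
theorem trans_pt (p q : Fin 3510) : ∃ m : Spor.Fi22, rho m p = q := by
  obtain ⟨m, hm⟩ := isConj_iff.1 (show IsConj (gen .a) (tau p) from tau_mem p)
  obtain ⟨k, hk⟩ := isConj_iff.1 (show IsConj (gen .a) (tau q) from tau_mem q)
  refine ⟨k * m⁻¹, tau_inj ?_⟩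
  rw [← tau_conj, ← hm, ← hk]
  group

/-- noncommuting transpositions -/
theorem tau_cube {p q : Fin 3510} (h : nc p q) : (tau p * tau q) ^ 3 = 1 := by
  obtain ⟨⟨-, h3⟩, -, -⟩ := Cfsg.Agent.R01.Fi22Facts.isThreeTranspositionClass_T
  rcases h3 _ (tau_mem p) _ (tau_mem q) with h1 | h1
  · exfalso
    have e1 : (tau p)⁻¹ = tau p := inv_eq_of_mul_eq_one_left (tau_sq p)
    have e2 : (tau q)⁻¹ = tau q := inv_eq_of_mul_eq_one_left (tau_sq q)
    refine comm_iff.1 ?_ h
    rw [pow_two] at h1
    have := eq_inv_of_mul_eq_one_left h1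
    rwa [mul_inv_rev, e1, e2] at this
  · exact h1

end Cfsg.Agent.H895.RG.Fi22
end

-- part: H732/USixNum
section
/-! The simple groups with a strongly 3-embedded subgroup and noncyclic Sylow 3-subgroups whose order is not divisible
by `3^7` have order less than `|U₆(2)|`. -/

set_option autoImplicit false
open Cfsg

namespace Cfsg.Agent.H732.USix

universe u

end Cfsg.Agent.H732.USix
end

-- part: H732/USix
section
/-! S3338: the normalizer of a `2^20` with complement `U₆(2)(.2)` is not strongly 3-embedded; generic part. -/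

set_option autoImplicit false
open Cfsg Subgroup

namespace Cfsg.Agent.H732.USix

universe u

/-- the facts on `U₆(2)` we use -/
structure U6 (S : Type*) [Group S] : Prop where
  simple : IsSimpleGroup S
  center : Subgroup.center S = ⊥
  perfect : ⁅(⊤ : Subgroup S), (⊤ : Subgroup S)⁆ = ⊤
  nine : ∃ E : Subgroup S, IsElementaryAbelian 3 E ∧ Nat.card E = 9
  card : Nat.card S = 9196830720

theorem center_of_nine {S : Type*} [Group S] [IsSimpleGroup S] {E : Subgroup S} (hE : Nat.card E = 9)
    (hS : Nat.card S = 9196830720) : Subgroup.center S = ⊥ := by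
  rcases (inferInstance : (Subgroup.center S).Normal).eq_bot_or_eq_top with h | h
  · exact h
  · exfalso
    have hn : E.Normal := ⟨fun x hx g => by
      have h1 : g ∈ Subgroup.center S := by rw [h]; trivial
      rw [← (mem_center_iff.1 h1 x), mul_inv_cancel_right]
      exact hx⟩
    rcases hn.eq_bot_or_eq_top with h1 | h1
    · rw [h1, Subgroup.card_bot] at hE
      omega
    · rw [h1, Subgroup.card_top, hS] at hE
      omega

theorem U6.congr {S T : Type*} [Group S] [Group T] (h : U6 S) (e : S ≃* T) : U6 T := by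
  have hs := h.simple
  have hnt : Nontrivial T := e.symm.toEquiv.nontrivial
  have hT : IsSimpleGroup T := IsSimpleGroup.isSimpleGroup_of_surjective e.toMonoidHom e.surjective
  have hcard : Nat.card T = 9196830720 := by rw [← Nat.card_congr e.toEquiv]; exact h.card
  obtain ⟨E, hE, hE9⟩ := h.nine
  have hE' : Nat.card (E.map e.toMonoidHom) = 9 := by
    rw [Subgroup.card_map_of_injective e.injective, hE9]
  refine ⟨hT, center_of_nine hE' hcard, ?_, ⟨E.map e.toMonoidHom, ⟨?_, ?_⟩, hE'⟩, hcard⟩
  · have h1 := congrArg (Subgroup.map e.toMonoidHom) h.perfect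
    rw [Subgroup.map_commutator, Subgroup.map_top_of_surjective _ e.surjective] at h1
    exact h1
  · have := hE.1
    exact ⟨⟨by
      rintro ⟨_, x, hx, rfl⟩ ⟨_, y, hy, rfl⟩
      apply Subtype.ext
      show e x * e y = e y * e x
      rw [← map_mul, ← map_mul]
      congr 1
      exact congrArg Subtype.val (hE.1.is_comm.comm ⟨x, hx⟩ ⟨y, hy⟩)⟩⟩
  · rintro _ ⟨x, hx, rfl⟩
    show e x ^ 3 = 1
    rw [← map_pow, hE.2 x hx, map_one]

end Cfsg.Agent.H732.USix
end

-- part: H272/RG/FiQ
section
/-!
# S3509, row `Fi22`: the centralizers of the transpositions (helper272, for helper895)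

* `quasi_of_double` : a nonsplit double cover of a simple group is quasisimple;
* `quasi` : `C(d) = 2.U6(2)`, `d` a transposition of `Fi22`;
* `Q2` : the data in a group `G` with a normal subgroup `N ≃* Fi22`.
-/

set_option autoImplicit false
open Cfsg

namespace Cfsg.Agent.H272.RG.Fi22

open Subgroup

theorem quasi_of_double {H K : Type*} [Group H] [Group K] (h : IsNonsplitDoubleCover H K) (hs : IsSimpleGroup K)
    (hc : ¬ IsMulCommutative K) : IsQuasisimple H := by
  obtain ⟨h1, ⟨e⟩, h3⟩ := h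
  have hsH : IsSimpleGroup (H ⧸ center H) := e.isSimpleGroup_congr.2 hs
  refine ⟨⟨?_⟩, hsH⟩
  -- the quotient is perfect
  have hq : commutator (H ⧸ center H) = ⊤ := by
    rcases (inferInstance : (commutator (H ⧸ center H)).Normal).eq_bot_or_eq_top with h | h
    · exfalso
      apply hc
      rw [commutator_eq_bot_iff_center_eq_top] at h
      refine ⟨⟨fun a b => ?_⟩⟩
      have : e.symm b ∈ center (H ⧸ center H) := by rw [h]; trivial
      have h4 := mem_center_iff.1 this (e.symm a)
      apply e.symm.injective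
      rw [map_mul, map_mul, h4]
    · exact h
  have hsup : commutator H ⊔ center H = ⊤ := by
    have h4 : (commutator H).map (QuotientGroup.mk' (center H)) = ⊤ := by
      rw [← hq, commutator_def, commutator_def, Subgroup.map_commutator, ← MonoidHom.range_eq_map,
        MonoidHom.range_eq_top.2 (QuotientGroup.mk'_surjective _)]
    have h5 := congrArg (Subgroup.comap (QuotientGroup.mk' (center H))) h4
    rw [Subgroup.comap_map_eq, QuotientGroup.ker_mk', Subgroup.comap_top] at h5
    exact h5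
  have hfin : Finite (center H) := Nat.finite_of_card_ne_zero (by rw [h1]; norm_num)
  have hcard : Nat.card ((commutator H).subgroupOf (center H)) ∣ 2 := by
    rw [← h1]
    exact Subgroup.card_subgroup_dvd_card _
  rcases (Nat.dvd_prime Nat.prime_two).1 hcard with h4 | h4
  · -- a complement
    exfalso
    apply h3 (commutator H)
    refine isComplement'_of_disjoint_and_mul_eq_univ ?_ ?_
    · rw [← Subgroup.subgroupOf_eq_bot, subgroupOf_eq_bot, disjoint_comm, ← subgroupOf_eq_bot]
      exact Subgroup.card_eq_one.1 h4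
    · rw [← Subgroup.mul_normal, sup_comm, hsup, coe_top]
  · have h5 : (commutator H).subgroupOf (center H) = ⊤ := by
      apply Subgroup.eq_top_of_card_eq
      rw [h4, h1]
    rw [subgroupOf_eq_top] at h5
    rw [sup_eq_left.2 h5] at hsup
    exact hsup

section facts

open Cfsg.Agent.Fischer.Abstract Cfsg.Agent.Fischer.Centralizer
  Cfsg.Agent.Fischer.Group22 Cfsg.Agent.Fischer.Rank22 Cfsg.Agent.Fischer.Unit22 Cfsg.Agent.SporRec.GF4

theorem simple_psu : IsSimpleGroup (PSU 6 F4 2) :=
  Cfsg.Agent.S0283.result (q := 2) hF 6 (by norm_num) (by norm_num)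

theorem card_psu : Nat.card (PSU 6 F4 2) = 9196830720 := H732.USix.card_psu6 (by rw [hF]; norm_num)

theorem ncomm_psu : ¬ IsMulCommutative (PSU 6 F4 2) := by
  intro hc
  have hs := simple_psu
  have hfin : Finite (PSU 6 F4 2) := Nat.finite_of_card_ne_zero (by rw [card_psu]; norm_num)
  let _ : CommGroup (PSU 6 F4 2) := { (inferInstance : Group (PSU 6 F4 2)) with mul_comm := hc.is_comm.comm }
  have h1 := IsSimpleGroup.prime_card (α := PSU 6 F4 2)
  rw [card_psu] at h1
  norm_num at h1

theorem double {d : Spor.Fi22} (hd : d ∈ Cfsg.Agent.R01.Fi22Facts.T) :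
    IsNonsplitDoubleCover (centralizer ({d} : Set Spor.Fi22)) (PSU 6 F4 2) := by
  obtain ⟨y, rfl⟩ := R01.Fi22Facts.mem_T_iff.1 hd
  exact isNonsplitDoubleCover_congr (R01.Fi22Facts.centMap R01.Fi22Facts.E (R.t y))
    (isNonsplitDoubleCover_all R Cfsg.Agent.Fischer.Unit22.isNonsplitDoubleCover_C (R.t y) ⟨y, rfl⟩)

theorem sq_T {d : Spor.Fi22} (hd : d ∈ Cfsg.Agent.R01.Fi22Facts.T) : d * d = 1 ∧ d ≠ 1 := by
  have h1 := R01.Fi22Facts.isThreeTranspositionClass_T.1.1 d hd
  refine ⟨?_, ?_⟩
  · rw [← pow_two, ← h1, pow_orderOf_eq_one]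
  · rintro rfl
    rw [orderOf_one] at h1
    norm_num at h1

/-- **Q1** -/
theorem quasi : ∀ d ∈ Cfsg.Agent.R01.Fi22Facts.T, IsQuasisimple (Subgroup.centralizer ({d} : Set Spor.Fi22)) ∧
    ¬ IsAlternating (Subgroup.centralizer ({d} : Set Spor.Fi22) ⧸
      Subgroup.center (Subgroup.centralizer ({d} : Set Spor.Fi22))) ∧
    (∀ x ∈ Subgroup.centralizer ({d} : Set Spor.Fi22),
      (∀ y ∈ Subgroup.centralizer ({d} : Set Spor.Fi22), x * y = y * x) → x = 1 ∨ x = d) := by
  intro d hd
  have h := double hd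
  refine ⟨quasi_of_double h simple_psu ncomm_psu, ?_, ?_⟩
  · obtain ⟨h1, ⟨e⟩, -⟩ := h
    refine H86.RG.not_alt (k := 13) ?_ ?_
    · rw [Nat.card_congr e.toEquiv, card_psu]
      norm_num [Nat.factorial]
    · rw [Nat.card_congr e.toEquiv, card_psu]
      norm_num [Nat.factorial]
  · intro x hx hc
    by_contra hcon
    push Not at hcon
    have h1 := h.1
    set C := centralizer ({d} : Set Spor.Fi22) with hC
    have hfin : Finite (center C) := Nat.finite_of_card_ne_zero (by rw [h1]; norm_num)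
    have hdC : d ∈ C := mem_centralizer_singleton_iff.2 rfl
    have hxz : (⟨x, hx⟩ : C) ∈ center C := mem_center_iff.2 fun g => Subtype.ext (hc g g.2).symm
    have hdz : (⟨d, hdC⟩ : C) ∈ center C := mem_center_iff.2 fun g => Subtype.ext (by
      exact mem_centralizer_singleton_iff.1 g.2)
    let F : Fin 3 → center C := ![1, ⟨⟨d, hdC⟩, hdz⟩, ⟨⟨x, hx⟩, hxz⟩]
    have hF : Function.Injective F := by
      have n1 : (1 : center C) ≠ ⟨⟨d, hdC⟩, hdz⟩ := fun e => (sq_T hd).2
        (congrArg Subtype.val (congrArg Subtype.val e)).symm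
      have n2 : (1 : center C) ≠ ⟨⟨x, hx⟩, hxz⟩ := fun e => hcon.1 (congrArg Subtype.val (congrArg Subtype.val e)).symm
      have n3 : (⟨⟨d, hdC⟩, hdz⟩ : center C) ≠ ⟨⟨x, hx⟩, hxz⟩ := fun e => hcon.2
        (congrArg Subtype.val (congrArg Subtype.val e)).symm
      intro i j hij
      fin_cases i <;> fin_cases j <;> first
        | rfl
        | exact absurd hij n1
        | exact absurd hij n2
        | exact absurd hij n3
        | exact absurd hij.symm n1
        | exact absurd hij.symm n2
        | exact absurd hij.symm n3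
    have := Nat.card_le_card_of_injective F hF
    rw [h1, Nat.card_eq_fintype_card, Fintype.card_fin] at this
    omega

end facts

section transport

variable {G S : Type*} [Group G] [Group S] {N : Subgroup G}

/-- the centralizer of `d` in `N`, as the image of the centralizer in the model -/
def M (e : N ≃* S) (d : N) : Subgroup G :=
  (centralizer ({e d} : Set S)).map (N.subtype.comp e.symm.toMonoidHom)

theorem mem_M (e : N ≃* S) (d : N) {g : G} : g ∈ M e d ↔ g ∈ N ∧ g * d = d * g := by
  constructor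
  · rintro ⟨s, hs, rfl⟩
    refine ⟨(e.symm s).2, ?_⟩
    have h1 := mem_centralizer_singleton_iff.1 hs
    have h2 : e.symm s * d = d * e.symm s := e.injective (by rw [map_mul, map_mul, e.apply_symm_apply, h1])
    exact congrArg Subtype.val h2
  · rintro ⟨hN, hg⟩
    refine ⟨e ⟨g, hN⟩, mem_centralizer_singleton_iff.2 ?_, ?_⟩
    · rw [← map_mul, ← map_mul]
      exact congrArg e (Subtype.ext hg)
    · show ((e.symm (e ⟨g, hN⟩) : N) : G) = g
      rw [e.symm_apply_apply]

/-- the isomorphism -/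
noncomputable def Me (e : N ≃* S) (d : N) : centralizer ({e d} : Set S) ≃* M e d :=
  Subgroup.equivMapOfInjective _ _ (by
    intro a b hab
    exact e.symm.injective (Subtype.ext hab))

theorem center_map {A B : Type*} [Group A] [Group B] (f : A ≃* B) : (center A).map f.toMonoidHom = center B := by
  ext y
  simp only [Subgroup.mem_map, Subgroup.mem_center_iff]
  constructor
  · rintro ⟨x, hx, rfl⟩ g
    obtain ⟨g', rfl⟩ := f.surjective g
    simpa only [_root_.MulEquiv.toMonoidHom_eq_coe, _root_.MonoidHom.coe_coe, _root_.map_mul] using congrArg f (hx g')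
  · intro hy
    refine ⟨f.symm y, fun g => ?_, by simp⟩
    apply f.injective
    simpa only [_root_.map_mul, _root_.MulEquiv.apply_symm_apply] using hy (f g)

theorem quasi_congr {A B : Type*} [Group A] [Group B] (f : A ≃* B) (h : IsQuasisimple A) : IsQuasisimple B := by
  obtain ⟨hp, hs⟩ := h
  have hp' : Group.IsPerfect B := Group.IsPerfect.ofSurjective (f := f.toMonoidHom) f.surjective
  exact ⟨hp', ((QuotientGroup.congr _ _ f (center_map f)).isSimpleGroup_congr).mp hs⟩

theorem nalt_congr {A B : Type*} [Group A] [Group B] (f : A ≃* B) (h : ¬ IsAlternating (A ⧸ center A)) :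
    ¬ IsAlternating (B ⧸ center B) := by
  rintro ⟨n, hn, ⟨g⟩⟩
  exact h ⟨n, hn, ⟨(QuotientGroup.congr _ _ f (center_map f)).trans g⟩⟩

/-- **Q2**, general form -/
theorem transport (hN : N.Normal) (e : N ≃* S) (d : N) (hq : IsQuasisimple (centralizer ({e d} : Set S)))
    (ha : ¬ IsAlternating (centralizer ({e d} : Set S) ⧸ center (centralizer ({e d} : Set S))))
    (hd : ∃ s : S, s * e d ≠ e d * s) :
    M e d ≤ N ∧ M e d ≠ N ∧ IsQuasisimple (M e d) ∧ ¬ IsAlternating (M e d ⧸ center (M e d)) ∧ (d : G) ∈ M e d ∧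
      (∀ n ∈ N, n * (d : G) = d * n → n ∈ M e d) ∧
      ∀ g : G, g * (d : G) = d * g → g ∈ normalizer (M e d : Set G) := by
  refine ⟨fun g hg => ((mem_M e d).1 hg).1, fun h => ?_, quasi_congr (Me e d) hq, nalt_congr (Me e d) ha,
    (mem_M e d).2 ⟨d.2, rfl⟩, fun n hn hc => (mem_M e d).2 ⟨hn, hc⟩, fun g hg => ?_⟩
  · obtain ⟨s, hs⟩ := hd
    apply hs
    have h1 : ((e.symm s : N) : G) ∈ M e d := by
      rw [h]
      exact (e.symm s).2
    have h2 := ((mem_M e d).1 h1).2
    have h3 : e.symm s * d = d * e.symm s := Subtype.ext h2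
    have h4 := congrArg e h3
    rwa [map_mul, map_mul, e.apply_symm_apply] at h4
  · rw [mem_normalizer_iff]
    intro h
    have key : ∀ g : G, g * (d : G) = d * g → ∀ h : G, h ∈ M e d → g * h * g⁻¹ ∈ M e d := by
      intro g hg h hh
      obtain ⟨h1, h2⟩ := (mem_M e d).1 hh
      refine (mem_M e d).2 ⟨hN.conj_mem _ h1 g, ?_⟩
      have h3 : g⁻¹ * (d : G) = d * g⁻¹ := by
        rw [inv_mul_eq_iff_eq_mul, ← mul_assoc, hg, mul_inv_cancel_right]
      calc g * h * g⁻¹ * (d : G) = g * h * (g⁻¹ * d) := by group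
        _ = g * (h * d) * g⁻¹ := by rw [h3]; group
        _ = (g * d) * h * g⁻¹ := by rw [h2]; group
        _ = d * (g * h * g⁻¹) := by rw [hg]; group
    constructor
    · exact key g hg h
    · intro hh
      have h3 : g⁻¹ * (d : G) = d * g⁻¹ := by
        rw [inv_mul_eq_iff_eq_mul, ← mul_assoc, hg, mul_inv_cancel_right]
      have h4 := key g⁻¹ h3 _ hh
      have e1 : g⁻¹ * (g * h * g⁻¹) * g⁻¹⁻¹ = h := by group
      rwa [e1] at h4

end transport

/-- **Q2** for `Fi22` -/
theorem Q2 {G : Type*} [Group G] {N : Subgroup G} (hN : N.Normal) (e : N ≃* Spor.Fi22) (d : N)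
    (hd : e d ∈ Cfsg.Agent.R01.Fi22Facts.T) :
    M e d ≤ N ∧ M e d ≠ N ∧ IsQuasisimple (M e d) ∧ ¬ IsAlternating (M e d ⧸ center (M e d)) ∧ (d : G) ∈ M e d ∧
      (∀ n ∈ N, n * (d : G) = d * n → n ∈ M e d) ∧
      (∀ g : G, g * (d : G) = d * g → g ∈ normalizer (M e d : Set G)) ∧
      ∀ n ∈ N, (∀ m ∈ M e d, n * m = m * n) → n = 1 ∨ n = d := by
  obtain ⟨h1, h2, h3⟩ := quasi _ hd
  have hs := R01.Fi22Facts.isSimple
  have hne : ∃ s : Spor.Fi22, s * e d ≠ e d * s := by
    by_contra hno
    push Not at hno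
    have hz : e d ∈ center Spor.Fi22 := mem_center_iff.2 hno
    rcases (inferInstance : (center Spor.Fi22).Normal).eq_bot_or_eq_top with h | h
    · rw [h, mem_bot] at hz
      exact (sq_T hd).2 hz
    · have hC : centralizer ({e d} : Set Spor.Fi22) = ⊤ := by
        rw [eq_top_iff]
        intro x _
        exact mem_centralizer_singleton_iff.2 (hno x)
      have h4 : ∀ x : Spor.Fi22, x = 1 ∨ x = e d := fun x => h3 x (by rw [hC]; trivial) fun y _ => by
        have : x ∈ center Spor.Fi22 := by rw [h]; trivial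
        exact (mem_center_iff.1 this y).symm
      have h5 : Nat.card Spor.Fi22 ≤ 2 := by
        have h6 : (Set.univ : Set Spor.Fi22) ⊆ {1, e d} := fun x _ => h4 x
        have h7 := Set.ncard_le_ncard h6 (Set.toFinite _)
        rw [Set.ncard_univ] at h7
        exact h7.trans (Set.ncard_insert_le _ _ |>.trans (by rw [Set.ncard_singleton]))
      rw [R01.Fi22Facts.card] at h5
      norm_num at h5
  obtain ⟨a1, a2, a3, a4, a5, a6, a7⟩ := transport hN e d h1 h2 hne
  refine ⟨a1, a2, a3, a4, a5, a6, a7, fun n hn hc => ?_⟩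
  have h5 := h3 (e ⟨n, hn⟩) (mem_centralizer_singleton_iff.2 (by
    rw [← map_mul, ← map_mul]
    exact congrArg e (Subtype.ext (hc _ a5)))) (fun y hy => by
      have h6 : ((e.symm y : N) : G) ∈ M e d := ⟨y, hy, rfl⟩
      have h7 : (⟨n, hn⟩ : N) * e.symm y = e.symm y * ⟨n, hn⟩ := Subtype.ext (hc _ h6)
      have h8 := congrArg e h7
      rwa [map_mul, map_mul, e.apply_symm_apply] at h8)
  rcases h5 with h5 | h5
  · left
    have h6 : (⟨n, hn⟩ : N) = 1 := e.injective (by rw [h5, map_one])
    exact congrArg Subtype.val h6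
  · right
    exact congrArg Subtype.val (e.injective h5)

end Cfsg.Agent.H272.RG.Fi22
end

-- part: H895/RG/Act
section
/-!
# S3509, row `Fi22`: the action on the transpositions and the dead rule (helper895)

`dl e p` : the transposition of the point `p` in `G`; `ac hN e : G →* Perm (Fin 3510)`;
`dead` : a cover by a commuting family fixing a point is impossible.
-/

set_option autoImplicit false
set_option maxRecDepth 1000000
set_option exponentiation.threshold 5000

namespace Cfsg.Agent.H895.RG.Fi22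

open Cfsg Cfsg.Spor Cfsg.Agent.H123.Cls Cfsg.Agent.Lib.BitNet
open Cfsg.Agent.H106.RC Cfsg.Agent.H873.RG
open Cfsg.Agent.H494.F22 (rho rho_gen rho_injective S S_val N_le_Aut)
open Cfsg.Agent.H494.F22.Row (row)
open Cfsg.Agent.Lib.BitNetSimple (force force_eq tb tb_eq)
open Cfsg.Agent.R01.Fi22Facts (T)
open Cfsg.Agent.Fischer.Fi22PtsRep (gen closure_gen)

section act

variable {G : Type} [Group G] {N : Subgroup G}

/-- the transposition of a point -/
noncomputable def dl (e : N ≃* Spor.Fi22) (p : Fin 3510) : G := (e.symm (tau p) : N)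

theorem dl_mem (e : N ≃* Spor.Fi22) (p : Fin 3510) : dl e p ∈ N := (e.symm (tau p)).2

theorem e_dl (e : N ≃* Spor.Fi22) (p : Fin 3510) (h : dl e p ∈ N) : e ⟨dl e p, h⟩ = tau p := by
  have : (⟨dl e p, h⟩ : N) = e.symm (tau p) := rfl
  rw [this, e.apply_symm_apply]

theorem dl_inj {e : N ≃* Spor.Fi22} {p q : Fin 3510} (h : dl e p = dl e q) : p = q :=
  tau_inj (e.symm.injective (Subtype.ext h))

theorem dl_sq (e : N ≃* Spor.Fi22) (p : Fin 3510) : dl e p * dl e p = 1 := by
  have h : e.symm (tau p) * e.symm (tau p) = 1 := by rw [← map_mul, tau_sq, map_one]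
  exact congrArg (fun t : N => (t : G)) h

theorem dl_inv (e : N ≃* Spor.Fi22) (p : Fin 3510) : (dl e p)⁻¹ = dl e p := inv_eq_of_mul_eq_one_left (dl_sq e p)

theorem dl_ne (e : N ≃* Spor.Fi22) (p : Fin 3510) : dl e p ≠ 1 := by
  intro h
  have h1 : e.symm (tau p) = 1 := Subtype.ext h
  exact tau_ne p (e.symm.injective (by rw [h1, map_one]))

theorem dl_cube {e : N ≃* Spor.Fi22} {p q : Fin 3510} (h : nc p q) : (dl e p * dl e q) ^ 3 = 1 := by
  have h1 : (e.symm (tau p) * e.symm (tau q)) ^ 3 = 1 := by rw [← map_mul, ← map_pow, tau_cube h, map_one]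
  exact congrArg (fun t : N => (t : G)) h1

theorem dl_comm {e : N ≃* Spor.Fi22} {p q : Fin 3510} : dl e p * dl e q = dl e q * dl e p ↔ ¬ nc p q := by
  rw [← comm_iff]
  constructor
  · intro h
    apply e.symm.injective
    rw [map_mul, map_mul]
    exact Subtype.ext h
  · intro h
    have h1 : e.symm (tau p) * e.symm (tau q) = e.symm (tau q) * e.symm (tau p) := by rw [← map_mul, ← map_mul, h]
    exact congrArg (fun t : N => (t : G)) h1

theorem exists_conj (hN : N.Normal) (e : N ≃* Spor.Fi22) (g : G) (p : Fin 3510) :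
    ∃ q, g * dl e p * g⁻¹ = dl e q := by
  have h1 : (MulAut.congr e (MulAut.conjNormal g)) (tau p) ∈ T := Cfsg.Agent.R08.AutT.aut_mem _ (tau_mem p)
  obtain ⟨q, hq⟩ := exists_pt h1
  refine ⟨q, ?_⟩
  have h2 : (MulAut.congr e (MulAut.conjNormal g)) (tau p) = e (MulAut.conjNormal g (e.symm (tau p))) := rfl
  rw [h2] at hq
  rw [dl, dl, hq, e.symm_apply_apply, MulAut.conjNormal_apply]

/-- the image of a point -/
noncomputable def fa (hN : N.Normal) (e : N ≃* Spor.Fi22) (g : G) (p : Fin 3510) : Fin 3510 := (exists_conj hN e g p).choose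

theorem fa_spec (hN : N.Normal) (e : N ≃* Spor.Fi22) (g : G) (p : Fin 3510) : g * dl e p * g⁻¹ = dl e (fa hN e g p) :=
  (exists_conj hN e g p).choose_spec

theorem fa_mul (hN : N.Normal) (e : N ≃* Spor.Fi22) (g h : G) (p : Fin 3510) :
    fa hN e (g * h) p = fa hN e g (fa hN e h p) := by
  apply dl_inj (e := e)
  rw [← fa_spec, ← fa_spec, ← fa_spec]
  group

theorem fa_one (hN : N.Normal) (e : N ≃* Spor.Fi22) (p : Fin 3510) : fa hN e 1 p = p := by
  apply dl_inj (e := e)
  rw [← fa_spec]
  group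

/-- the action on the points -/
noncomputable def ac (hN : N.Normal) (e : N ≃* Spor.Fi22) : G →* Equiv.Perm (Fin 3510) where
  toFun g := ⟨fa hN e g, fa hN e g⁻¹, fun p => by rw [← fa_mul, inv_mul_cancel, fa_one],
    fun p => by rw [← fa_mul, mul_inv_cancel, fa_one]⟩
  map_one' := Equiv.ext fun p => fa_one hN e p
  map_mul' g h := Equiv.ext fun p => fa_mul hN e g h p

theorem ac_spec (hN : N.Normal) (e : N ≃* Spor.Fi22) (g : G) (p : Fin 3510) : g * dl e p * g⁻¹ = dl e (ac hN e g p) :=
  fa_spec hN e g p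

theorem ac_fix {hN : N.Normal} {e : N ≃* Spor.Fi22} {g : G} {p : Fin 3510} :
    ac hN e g p = p ↔ g * dl e p = dl e p * g := by
  constructor
  · intro h
    have h1 := ac_spec hN e g p
    rwa [h, mul_inv_eq_iff_eq_mul] at h1
  · intro h
    apply dl_inj (e := e)
    rw [← ac_spec hN, h, mul_inv_cancel_right]

/-- the elements of `N` act as in the model -/
theorem ac_mem (hN : N.Normal) (e : N ≃* Spor.Fi22) {n : G} (hn : n ∈ N) : ac hN e n = rho (e ⟨n, hn⟩) := by
  ext p
  congr 1
  apply dl_inj (e := e)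
  rw [← ac_spec hN]
  have h := tau_conj (e ⟨n, hn⟩) p
  have h1 : (⟨n, hn⟩ : N) * e.symm (tau p) * (⟨n, hn⟩ : N)⁻¹ = e.symm (tau (rho (e ⟨n, hn⟩) p)) := by
    rw [← h, map_mul, map_mul, map_inv, e.symm_apply_apply]
  exact congrArg (fun t : N => (t : G)) h1

theorem ac_dl (hN : N.Normal) (e : N ≃* Spor.Fi22) (p : Fin 3510) : ac hN e (dl e p) = rho (tau p) := by
  rw [ac_mem hN e (dl_mem e p), e_dl]

theorem ac_nc (hN : N.Normal) (e : N ≃* Spor.Fi22) (g : G) (p q : Fin 3510) :
    nc (ac hN e g p) (ac hN e g q) ↔ nc p q := by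
  rw [← not_iff_not, ← dl_comm (e := e), ← dl_comm (e := e), ← ac_spec, ← ac_spec]
  constructor
  · intro h
    have h1 : g⁻¹ * (g * dl e p * g⁻¹ * (g * dl e q * g⁻¹)) * g = g⁻¹ * (g * dl e q * g⁻¹ * (g * dl e p * g⁻¹)) * g := by
      rw [h]
    have e1 : g⁻¹ * (g * dl e p * g⁻¹ * (g * dl e q * g⁻¹)) * g = dl e p * dl e q := by group
    have e2 : g⁻¹ * (g * dl e q * g⁻¹ * (g * dl e p * g⁻¹)) * g = dl e q * dl e p := by group
    rwa [e1, e2] at h1
  · intro h
    have e1 : g * dl e p * g⁻¹ * (g * dl e q * g⁻¹) = g * (dl e p * dl e q) * g⁻¹ := by group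
    have e2 : g * dl e q * g⁻¹ * (g * dl e p * g⁻¹) = g * (dl e q * dl e p) * g⁻¹ := by group
    rw [e1, e2, h]

theorem ac_Aut (hN : N.Normal) (e : N ≃* Spor.Fi22) (g : G) : ac hN e g ∈ Aut 3510 row := by
  intro p q
  have h := ac_nc hN e g p q
  rw [nc, nc] at h
  rw [Bool.eq_iff_iff]
  exact h

theorem dl_gen (e : N ≃* Spor.Fi22) (x : Spor.Fi22.Gen) : ∃ p, dl e p = (e.symm (gen x) : N) := by
  obtain ⟨p, hp⟩ := exists_pt (Cfsg.Agent.R01.Fi22Facts.gen_mem x)
  exact ⟨p, by rw [dl, hp]⟩

/-- an element commuting with the generators is trivial -/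
theorem eq_one_of_gen {e : N ≃* Spor.Fi22} (hc : Subgroup.centralizer (N : Set G) = ⊥) {x : G}
    (h : ∀ s : Spor.Fi22.Gen, x * (e.symm (gen s) : N) = (e.symm (gen s) : N) * x) : x = 1 := by
  have h1 : x ∈ Subgroup.centralizer (N : Set G) := by
    rw [Subgroup.mem_centralizer_iff]
    intro n hn
    let K : Subgroup Spor.Fi22 := (Subgroup.centralizer ({x} : Set G)).comap (N.subtype.comp e.symm.toMonoidHom)
    have hK : K = ⊤ := by
      rw [eq_top_iff, ← closure_gen, Subgroup.closure_le]
      rintro _ ⟨s, rfl⟩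
      show ((e.symm (gen s) : N) : G) ∈ Subgroup.centralizer ({x} : Set G)
      rw [Subgroup.mem_centralizer_singleton_iff]
      exact (h s).symm
    have h2 : e ⟨n, hn⟩ ∈ K := by rw [hK]; trivial
    have h3 : ((e.symm (e ⟨n, hn⟩) : N) : G) ∈ Subgroup.centralizer ({x} : Set G) := h2
    rw [e.symm_apply_apply, Subgroup.mem_centralizer_singleton_iff] at h3
    exact h3
  rw [hc] at h1
  exact Subgroup.mem_bot.1 h1

/-! ### the centralizer of the centralizer of a transposition -/

/-- the complement of the row of `0` -/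
noncomputable def M0 : ℕ := Nat.land (Nat.sub (Nat.pow 2 3510) 1) (Nat.xor (Nat.sub (Nat.pow 2 3510) 1) (row 0))

noncomputable def chkC : Bool :=
  force M0 fun m => force (Nat.land (row 14) m) fun r => force (lk 12 (nth FiDat.gens 0) 14) fun a =>
    allN (fun q => or (Nat.beq q 14) (or (Nat.beq q a) (not (Nat.beq (Nat.land (row q) m) r)))) 3510

theorem chkC_eq : chkC = true := by decide +kernel

theorem M0_bit (i : ℕ) : M0.testBit i = (decide (i < 3510) && !(row 0).testBit i) := by
  show ((2 ^ 3510 - 1) &&& ((2 ^ 3510 - 1) ^^^ row 0)).testBit i = _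
  rw [Nat.testBit_and, Nat.testBit_xor, Nat.testBit_two_pow_sub_one]
  by_cases h : i < 3510 <;> simp [h]

/-- the points with the same relation to the points commuting with `P0` -/
theorem eq_of_chkC {q : Fin 3510} (h : ∀ s : Fin 3510, ¬ nc P0 s → (nc q s ↔ nc P1 s)) :
    q = P1 ∨ q = rho (gen .a) P1 := by
  have h1 := chkC_eq
  unfold chkC at h1
  rw [force_eq, force_eq, force_eq] at h1
  have h2 := (allN_iff _ _).1 h1 q q.2
  have h3 : Nat.land (row q) M0 = Nat.land (row 14) M0 := by
    apply Nat.eq_of_testBit_eq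
    intro i
    show (row q &&& M0).testBit i = (row 14 &&& M0).testBit i
    rw [Nat.testBit_and, Nat.testBit_and, M0_bit]
    by_cases hi : i < 3510
    · by_cases h0 : (row 0).testBit i = true
      · rw [h0]; simp
      · have h4 := h ⟨i, hi⟩ h0
        have h5 : (row q).testBit i = (row 14).testBit i := Bool.eq_iff_iff.2 h4
        rw [h5]
    · simp [hi]
  rw [h3, Nat.beq_refl, Bool.not_true, Bool.or_false, Bool.or_eq_true, Nat.beq_eq, Nat.beq_eq] at h2
  rcases h2 with h2 | h2
  · left
    exact Fin.ext h2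
  · right
    refine Fin.ext ?_
    rw [h2]
    exact (FiDat.gn_tab (x := 0) (by norm_num) P1).symm

theorem comm_a : ∀ s : Spor.Fi22.Gen, s ≠ .b → gen .a * gen s = gen s * gen .a := by
  intro s hs
  cases s
  · rfl
  · exact absurd rfl hs
  all_goals exact Cfsg.Agent.Fischer.Fi22PtsRep.gen_comm (by decide)

theorem cent_P0 {hN : N.Normal} {e : N ≃* Spor.Fi22} (hc : Subgroup.centralizer (N : Set G) = ⊥) {x : G}
    (h : ∀ n ∈ N, n * dl e P0 = dl e P0 * n → x * n = n * x) : x = 1 ∨ x = dl e P0 := by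
  have ha : tau P0 = gen .a := tau_of_rel (Cfsg.Agent.R01.Fi22Facts.gen_mem .a) rel0
  have hb : tau P1 = gen .b := tau_of_rel (Cfsg.Agent.R01.Fi22Facts.gen_mem .b) rel1
  -- `x` fixes the points commuting with `P0`
  have hfix : ∀ y : G, (∀ n ∈ N, n * dl e P0 = dl e P0 * n → y * n = n * y) → ac hN e y P1 = P1 → y = 1 := by
    intro y hy hy1
    refine eq_one_of_gen (e := e) hc fun s => ?_
    by_cases hs : s = .b
    · rw [hs, ← hb]
      exact ac_fix.1 hy1
    · refine hy _ (e.symm (gen s)).2 ?_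
      rw [dl, ha]
      have h1 : e.symm (gen s) * e.symm (gen .a) = e.symm (gen .a) * e.symm (gen s) := by
        rw [← map_mul, ← map_mul, comm_a s hs]
      exact congrArg (fun t : N => (t : G)) h1
  have h1 : ∀ s : Fin 3510, ¬ nc P0 s → ac hN e x s = s := fun s hs => by
    refine ac_fix.2 (h _ (dl_mem e s) ?_)
    exact (dl_comm.2 hs).symm
  have h2 : ∀ s : Fin 3510, ¬ nc P0 s → (nc (ac hN e x P1) s ↔ nc P1 s) := fun s hs => by
    have h3 := ac_nc hN e x P1 s
    rwa [h1 s hs] at h3
  rcases eq_of_chkC h2 with h3 | h3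
  · exact Or.inl (hfix x h h3)
  · right
    have h4 : dl e P0 * x = 1 := by
      refine hfix _ (fun n hn hn0 => ?_) ?_
      · rw [mul_assoc, h n hn hn0, ← mul_assoc, ← hn0, mul_assoc]
      · rw [map_mul, Equiv.Perm.mul_apply, h3, ac_dl, ha, ← Equiv.Perm.mul_apply, ← map_mul, ← ha, tau_sq, map_one]
        rfl
    rw [← dl_inv]
    exact (inv_eq_of_mul_eq_one_right h4).symm

theorem cent_pt {hN : N.Normal} {e : N ≃* Spor.Fi22} (hc : Subgroup.centralizer (N : Set G) = ⊥) {x : G} {p : Fin 3510}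
    (h : ∀ n ∈ N, n * dl e p = dl e p * n → x * n = n * x) : x = 1 ∨ x = dl e p := by
  obtain ⟨m, hm⟩ := trans_pt P0 p
  set k : G := ((e.symm m : N) : G) with hk
  have hkN : k ∈ N := (e.symm m).2
  have h1 : k * dl e P0 * k⁻¹ = dl e p := by
    rw [ac_spec hN, ac_mem hN e hkN]
    have : e ⟨k, hkN⟩ = m := by
      have : (⟨k, hkN⟩ : N) = e.symm m := rfl
      rw [this, e.apply_symm_apply]
    rw [this, hm]
  have h2 := cent_P0 (hN := hN) (e := e) hc (x := k⁻¹ * x * k) fun n hn hn0 => by
    have h3 := h (k * n * k⁻¹) (N.mul_mem (N.mul_mem hkN hn) (N.inv_mem hkN)) (by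
      rw [← h1]
      calc k * n * k⁻¹ * (k * dl e P0 * k⁻¹) = k * (n * dl e P0) * k⁻¹ := by group
        _ = k * (dl e P0 * n) * k⁻¹ := by rw [hn0]
        _ = _ := by group)
    calc k⁻¹ * x * k * n = k⁻¹ * (x * (k * n * k⁻¹)) * k := by group
      _ = k⁻¹ * (k * n * k⁻¹ * x) * k := by rw [h3]
      _ = _ := by group
  rcases h2 with h2 | h2
  · left
    calc x = k * (k⁻¹ * x * k) * k⁻¹ := by group
      _ = 1 := by rw [h2]; group
  · right
    calc x = k * (k⁻¹ * x * k) * k⁻¹ := by group
      _ = dl e p := by rw [h2, h1]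

end act

/-- **the dead rule** -/
theorem dead {G Ω ι : Type} [Group G] [Finite G] [Nonempty Ω] [MulAction G Ω] [Finite ι] {N : Subgroup G}
    (hE : Env G Ω N) (hN : N.Normal) (e : N ≃* Spor.Fi22) (hIH : IHx (Nat.card Spor.Fi22)) {x : ι → G} {r : ι → ℕ}
    (hx : PF x r) (hc : Cov Ω x) {p : Fin 3510} (hp : ∀ i, ac hN e (x i) p = p) : False := by
  have hd : e ⟨dl e p, dl_mem e p⟩ ∈ T := by rw [e_dl]; exact tau_mem p
  obtain ⟨a1, a2, a3, a4, a5, a6, a7, -⟩ := Cfsg.Agent.H272.RG.Fi22.Q2 hN e ⟨dl e p, dl_mem e p⟩ hd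
  have hall : ∀ ω : Ω, dl e p • ω = ω := by
    intro ω
    rcases Cfsg.Agent.H86.RG.mruleQ hIH e a1 a2 a3 a4 hx hc (fun i => a7 _ (ac_fix.1 (hp i))) ω with h | ⟨j, hj, hjω⟩
    · exact h a5
    · rcases cent_pt (hN := hN) (e := e) hE.cent (x := x j) (p := p) (fun n hn hn0 => hj _ (a6 n hn hn0)) with h1 | h1
      · exact absurd h1 (hx.ne j)
      · rwa [h1] at hjω
  exact dl_ne e p (hE.single hall)

end Cfsg.Agent.H895.RG.Fi22
end

-- part: H895/RG/Pair
section
/-!
# S3509, row `Fi22`: replacement rules for covers by two and three elements (helper895)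

* `dead2` : a cover by two commuting elements fixing a point;
* `RP` : for two noncommuting fixed transpositions there is a third one commuting with the first one only;
* `kill_pair` : a cover by `h`, `w`, where `h` has the property `RP`;
* `kill_three` : a cover by `z`, `x`, `y` where `z` has order `2`, `x` order `3`, with a special configuration.
-/

set_option autoImplicit false
set_option linter.unusedSectionVars false

namespace Cfsg.Agent.H895.RG.Fi22

open Cfsg Cfsg.Spor Cfsg.Agent.H106.RC Cfsg.Agent.H873.RG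
open Cfsg.Agent.H494.F22 (rho)

/-- for two noncommuting fixed transpositions there is a third one commuting with the first one only -/
def RP (σ : Equiv.Perm (Fin 3510)) : Prop :=
  ∀ p q : Fin 3510, σ p = p → σ q = q → nc p q → ∃ s, σ s = s ∧ s ≠ p ∧ ¬ nc p s ∧ nc q s

section

variable {G Ω : Type} [Group G] [Finite G] [Nonempty Ω] [MulAction G Ω] {N : Subgroup G}

theorem dead2 (hE : Env G Ω N) (hN : N.Normal) (e : N ≃* Spor.Fi22) (hIH : IHx (Nat.card Spor.Fi22)) {y h : G} {a b : ℕ}
    (ha : a.Prime) (hb : b.Prime) (hab : a ≠ b) (hy : y ^ a = 1) (hy1 : y ≠ 1) (hh : h ^ b = 1) (hh1 : h ≠ 1)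
    (hyh : y * h = h * y) (hc : ∀ ω : Ω, h • ω = ω ∨ y • ω = ω) {p : Fin 3510} (hyp : ac hN e y p = p)
    (hhp : ac hN e h p = p) : False := by
  let x : Bool → G := fun i => cond i y h
  let r : Bool → ℕ := fun i => cond i a b
  have hx : PF x r := by
    refine ⟨fun i => ?_, fun i j hij => ?_, fun i => ?_, fun i => ?_, fun i j => ?_⟩
    · cases i
      · exact hb
      · exact ha
    · cases i <;> cases j
      · rfl
      · exact absurd (show b = a from hij).symm hab
      · exact absurd (show a = b from hij) hab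
      · rfl
    · cases i
      · exact hh
      · exact hy
    · cases i
      · exact hh1
      · exact hy1
    · cases i <;> cases j
      · rfl
      · exact hyh.symm
      · exact hyh
      · rfl
  refine dead hE hN e hIH hx (fun ω => ?_) (p := p) (fun i => ?_)
  · rcases hc ω with h | h
    · exact ⟨false, h⟩
    · exact ⟨true, h⟩
  · cases i
    · exact hhp
    · exact hyp

/-- the normal closure of `w` under the centralizer of `h` -/
def KK (h w : G) : Subgroup G := Subgroup.closure {z | ∃ c : G, c * h = h * c ∧ z = c * w * c⁻¹}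

omit [Finite G] in
theorem KK_self (h w : G) : w ∈ KK h w := Subgroup.subset_closure ⟨1, by simp, by simp⟩

omit [Finite G] in
theorem KK_conj {h w c y : G} (hc : c * h = h * c) (hy : y ∈ KK h w) : c * y * c⁻¹ ∈ KK h w := by
  unfold KK at hy
  refine Subgroup.closure_induction (p := fun y _ => c * y * c⁻¹ ∈ KK h w) ?_ ?_ ?_ ?_ hy
  · rintro _ ⟨d, hd, rfl⟩
    refine Subgroup.subset_closure ⟨c * d, ?_, by group⟩
    rw [mul_assoc, hd, ← mul_assoc, hc, mul_assoc]
  · rw [mul_one, mul_inv_cancel]; exact one_mem _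
  · intro a b _ _ ha hb
    have : c * (a * b) * c⁻¹ = (c * a * c⁻¹) * (c * b * c⁻¹) := by group
    rw [this]
    exact mul_mem ha hb
  · intro a _ ha
    have : c * a⁻¹ * c⁻¹ = (c * a * c⁻¹)⁻¹ := by group
    rw [this]
    exact inv_mem ha

/-- the product of a transposition and its conjugate -/
theorem KK_pair {hN : N.Normal} {e : N ≃* Spor.Fi22} {h w : G} {p : Fin 3510} (hp : ac hN e h p = p) :
    dl e p * dl e (ac hN e w p) ∈ KK h w := by
  have h1 : dl e p * w * (dl e p)⁻¹ ∈ KK h w := KK_conj (ac_fix.1 hp).symm (KK_self h w)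
  have h2 := mul_mem h1 (inv_mem (KK_self h w))
  have h3 : dl e p * w * (dl e p)⁻¹ * w⁻¹ = dl e p * dl e (ac hN e w p) := by
    calc dl e p * w * (dl e p)⁻¹ * w⁻¹ = dl e p * (w * dl e p * w⁻¹)⁻¹ := by group
      _ = dl e p * dl e (ac hN e w p) := by rw [ac_spec hN, dl_inv]
  rwa [h3] at h2

theorem comm_ac {hN : N.Normal} {e : N ≃* Spor.Fi22} {a b : G} (h : a * b = b * a) (p : Fin 3510) :
    ac hN e a (ac hN e b p) = ac hN e b (ac hN e a p) := by
  rw [← Equiv.Perm.mul_apply, ← Equiv.Perm.mul_apply, ← map_mul, ← map_mul, h]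

/-- products of two commuting transpositions -/
theorem prod_sq {e : N ≃* Spor.Fi22} {p q : Fin 3510} (h : ¬ nc p q) : (dl e p * dl e q) ^ 2 = 1 := by
  have h1 : dl e p * dl e q = dl e q * dl e p := dl_comm.2 h
  calc (dl e p * dl e q) ^ 2 = dl e p * (dl e q * dl e p) * dl e q := by rw [pow_two]; group
    _ = dl e p * (dl e p * dl e q) * dl e q := by rw [h1]
    _ = (dl e p * dl e p) * (dl e q * dl e q) := by group
    _ = 1 := by rw [dl_sq, dl_sq, one_mul]

theorem prod_ne {e : N ≃* Spor.Fi22} {p q : Fin 3510} (h : p ≠ q) : dl e p * dl e q ≠ 1 := by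
  intro h1
  apply h
  have h2 := eq_inv_of_mul_eq_one_left h1
  rw [dl_inv] at h2
  exact dl_inj h2

/-- the pair rule when `h` and a product of two commuting transpositions in the normal closure commute with `dl e p` -/
theorem dead_inv (hE : Env G Ω N) (hN : N.Normal) (e : N ≃* Spor.Fi22) (hIH : IHx (Nat.card Spor.Fi22)) {h w : G} {b : ℕ}
    (hb : b.Prime) (hb2 : b ≠ 2) (hh : h ^ b = 1) (hh1 : h ≠ 1) (hc : ∀ ω : Ω, h • ω = ω ∨ w • ω = ω)
    {p q : Fin 3510} (hp : ac hN e h p = p) (hq : ac hN e h q = q) (hpq : p ≠ q) (hn : ¬ nc p q)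
    (hK : dl e p * dl e q ∈ KK h w) : False := by
  have h1 : dl e p * dl e q = dl e q * dl e p := dl_comm.2 hn
  refine dead2 hE hN e hIH Nat.prime_two hb hb2.symm (prod_sq hn) (prod_ne hpq) hh hh1 ?_
    (Cfsg.Agent.H867.RC.pair_mv hc hK) (p := p) ?_ hp
  · rw [mul_assoc, ← ac_fix.1 hq, ← mul_assoc, ← ac_fix.1 hp, mul_assoc]
  · rw [ac_fix, mul_assoc, ← h1]

/-- **the pair rule** -/
theorem kill_pair (hE : Env G Ω N) (hN : N.Normal) (e : N ≃* Spor.Fi22) (hIH : IHx (Nat.card Spor.Fi22)) {h w : G}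
    {a b : ℕ} (ha : a.Prime) (hb : b.Prime) (hab : a ≠ b) (hb2 : b ≠ 2) (hw : w ^ a = 1) (hw1 : w ≠ 1) (hh : h ^ b = 1)
    (hh1 : h ≠ 1) (hwh : w * h = h * w) (hc : ∀ ω : Ω, h • ω = ω ∨ w • ω = ω) (hR : RP (ac hN e h)) {p : Fin 3510}
    (hp : ac hN e h p = p) : False := by
  by_cases hwp : ac hN e w p = p
  · exact dead2 hE hN e hIH ha hb hab hw hw1 hh hh1 hwh hc hwp hp
  set q := ac hN e w p with hq
  have hhq : ac hN e h q = q := by rw [hq, comm_ac hwh.symm, hp]
  have hK : dl e p * dl e q ∈ KK h w := KK_pair hp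
  by_cases hn : nc p q
  swap
  · exact dead_inv hE hN e hIH hb hb2 hh hh1 hc hp hhq (fun h' => hwp h'.symm) hn hK
  obtain ⟨s, hs, hsp, hs1, hs2⟩ := hR p q hp hhq hn
  refine dead_inv hE hN e hIH hb hb2 hh hh1 hc hp hs hsp.symm hs1 ?_
  -- `d = dl p`, `f = dl q`, `t = dl s`
  have h1 : dl e s * (dl e p * dl e q) * (dl e s)⁻¹ ∈ KK h w := KK_conj (ac_fix.1 hs).symm hK
  have h2 := mul_mem (inv_mem hK) h1
  have c1 : dl e s * dl e p = dl e p * dl e s := (dl_comm.2 hs1).symm
  have e3 : (dl e p * dl e q)⁻¹ * (dl e s * (dl e p * dl e q) * (dl e s)⁻¹) = dl e s * dl e q := by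
    have h3 := dl_cube (e := e) hs2
    have h4 : dl e q * dl e s * (dl e q * dl e s) = dl e s * dl e q := by
      have h5 : dl e q * dl e s * (dl e q * dl e s) * (dl e q * dl e s) = 1 := by
        rw [← h3, pow_succ, pow_two]
      have h6 := eq_inv_of_mul_eq_one_left h5
      rw [h6, mul_inv_rev, dl_inv, dl_inv]
    calc (dl e p * dl e q)⁻¹ * (dl e s * (dl e p * dl e q) * (dl e s)⁻¹) =
        (dl e q)⁻¹ * (dl e p)⁻¹ * (dl e s * dl e p) * dl e q * (dl e s)⁻¹ := by group
      _ = (dl e q)⁻¹ * (dl e p)⁻¹ * (dl e p * dl e s) * dl e q * (dl e s)⁻¹ := by rw [c1]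
      _ = (dl e q)⁻¹ * dl e s * dl e q * (dl e s)⁻¹ := by group
      _ = dl e q * dl e s * (dl e q * dl e s) := by rw [dl_inv, dl_inv]; group
      _ = dl e s * dl e q := h4
  rw [e3] at h2
  have h5 := mul_mem hK (inv_mem h2)
  have e5 : dl e p * dl e q * (dl e s * dl e q)⁻¹ = dl e p * dl e s := by
    rw [mul_inv_rev, dl_inv, dl_inv]
    calc dl e p * dl e q * (dl e q * dl e s) = dl e p * (dl e q * dl e q) * dl e s := by group
      _ = dl e p * dl e s := by rw [dl_sq, mul_one]
  rwa [e5] at h5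

omit [Finite G] [Nonempty Ω] in
/-- replacement in a cover by three elements -/
theorem mv3 {a b x c : G} (hc : ∀ ω : Ω, a • ω = ω ∨ b • ω = ω ∨ x • ω = ω) (ha : c * a = a * c) (hb : c * b = b * c) :
    ∀ ω : Ω, a • ω = ω ∨ b • ω = ω ∨ (c * x * c⁻¹ * x⁻¹) • ω = ω := by
  intro ω
  by_cases h1 : a • ω = ω
  · exact Or.inl h1
  by_cases h2 : b • ω = ω
  · exact Or.inr (Or.inl h2)
  refine Or.inr (Or.inr ?_)
  have key : ∀ y : G, c * y = y * c → y • ω ≠ ω → y • c⁻¹ • ω ≠ c⁻¹ • ω := by
    intro y hy h3 h4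
    apply h3
    have h5 : c • y • c⁻¹ • ω = ω := by rw [h4, smul_inv_smul]
    rwa [smul_smul, hy, mul_smul, smul_inv_smul] at h5
  have h3 : x • ω = ω := by
    rcases hc ω with h | h | h
    · exact absurd h h1
    · exact absurd h h2
    · exact h
  have h4 : x • c⁻¹ • ω = c⁻¹ • ω := by
    rcases hc (c⁻¹ • ω) with h | h | h
    · exact absurd h (key a ha h1)
    · exact absurd h (key b hb h2)
    · exact h
  have h5 : x⁻¹ • ω = ω := by rw [inv_smul_eq_iff, h3]
  rw [mul_smul, h5, mul_smul, mul_smul, h4, smul_inv_smul]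

/-- **the rule for three elements** -/
theorem kill_three (hE : Env G Ω N) (hN : N.Normal) (e : N ≃* Spor.Fi22) (hIH : IHx (Nat.card Spor.Fi22)) {z x y : G}
    (hz : z * z = 1) (hx : x ^ 3 = 1) (hx1 : x ≠ 1) (hzx : z * x = x * z) (hzy : z * y = y * z) (hxy : x * y = y * x)
    (hc : ∀ ω : Ω, z • ω = ω ∨ x • ω = ω ∨ y • ω = ω) {p p' s s' t : Fin 3510} (hp : ac hN e x p = p)
    (hp' : ac hN e z p = p') (hs : ac hN e y p = s) (hs' : ac hN e z s = s') (n1 : ¬ nc p p') (n2 : ¬ nc p s)
    (n3 : ¬ nc p s') (t1 : nc p t) (t2 : nc p' t) (t3 : ¬ nc s t) (t4 : ¬ nc s' t) (hne : p ≠ p') : False := by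
  have hzz : ∀ v, ac hN e z (ac hN e z v) = v := fun v => by
    rw [← Equiv.Perm.mul_apply, ← map_mul, hz, map_one, Equiv.Perm.one_apply]
  have hzp' : ac hN e z p' = p := by rw [← hp', hzz]
  have hzs' : ac hN e z s' = s := by rw [← hs', hzz]
  have hyp' : ac hN e y p' = s' := by rw [← hp', comm_ac hzy.symm, hs, hs']
  have hxp' : ac hN e x p' = p' := by rw [← hp', comm_ac hzx.symm, hp]
  have hxs : ac hN e x s = s := by rw [← hs, comm_ac hxy, hp]
  have hxs' : ac hN e x s' = s' := by rw [← hs', comm_ac hzx.symm, hxs]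
  have n4 : ¬ nc p' s' := by rw [← hp', ← hs', ac_nc]; exact n2
  have n5 : ¬ nc p' s := by
    rw [← hp', show s = ac hN e z s' from hzs'.symm, ac_nc]; exact n3
  have n6 : ¬ nc s s' := by rw [← hs, ← hyp', ac_nc]; exact n1
  set d := dl e p with hd
  set d' := dl e p' with hd'
  set E := dl e s with hE0
  set E' := dl e s' with hE'
  have c1 : d * d' = d' * d := dl_comm.2 n1
  have c2 : d * E = E * d := dl_comm.2 n2
  have c3 : d * E' = E' * d := dl_comm.2 n3
  have c4 : d' * E' = E' * d' := dl_comm.2 n4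
  have c5 : d' * E = E * d' := dl_comm.2 n5
  have c6 : E * E' = E' * E := dl_comm.2 n6
  have q1 : d * d = 1 := dl_sq e p
  have q2 : d' * d' = 1 := dl_sq e p'
  have q3 : E * E = 1 := dl_sq e s
  have q4 : E' * E' = 1 := dl_sq e s'
  have i1 : d⁻¹ = d := dl_inv e p
  have i2 : d'⁻¹ = d' := dl_inv e p'
  have i3 : E⁻¹ = E := dl_inv e s
  have i4 : E'⁻¹ = E' := dl_inv e s'
  have zd : z * d * z⁻¹ = d' := by rw [hd, ac_spec hN, hp']
  have zd' : z * d' * z⁻¹ = d := by rw [hd', ac_spec hN, hzp']
  have zE : z * E * z⁻¹ = E' := by rw [hE0, ac_spec hN, hs']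
  have yd : y * d * y⁻¹ = E := by rw [hd, ac_spec hN, hs]
  have yd' : y * d' * y⁻¹ = E' := by rw [hd', ac_spec hN, hyp']
  have xd : d * x = x * d := (ac_fix.1 hp).symm
  have xd' : d' * x = x * d' := (ac_fix.1 hxp').symm
  have xE : E * x = x * E := (ac_fix.1 hxs).symm
  have xE' : E' * x = x * E' := (ac_fix.1 hxs').symm
  -- `w = d d' E E'`
  have C : ∀ {a b : G}, a * b = b * a → Commute a b := fun h => h
  set w := d * d' * (E * E') with hw
  -- first replacement
  have hc1 := mv3 hc (c := d * d') (by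
    have h1 : z * (d * d') * z⁻¹ = d * d' := by
      calc z * (d * d') * z⁻¹ = (z * d * z⁻¹) * (z * d' * z⁻¹) := by group
        _ = d * d' := by rw [zd, zd', c1]
    rw [mul_inv_eq_iff_eq_mul] at h1
    exact h1.symm) ((C xd).mul_left (C xd')).eq
  have e1 : d * d' * y * (d * d')⁻¹ * y⁻¹ = w := by
    calc d * d' * y * (d * d')⁻¹ * y⁻¹ = d * d' * ((y * d * y⁻¹) * (y * d' * y⁻¹))⁻¹ := by group
      _ = w := by rw [yd, yd', mul_inv_rev, i3, i4, ← c6]
  rw [e1] at hc1
  -- second replacement
  have wd : d * w = w * d :=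
    (((C (show d * d = d * d from rfl)).mul_right (C c1)).mul_right ((C c2).mul_right (C c3))).eq
  have wE : E * w = w * E :=
    (((C c2.symm).mul_right (C c5.symm)).mul_right ((C (show E * E = E * E from rfl)).mul_right (C c6))).eq
  have hc2 := mv3 (a := x) (b := w) (x := z) (c := d * E) (fun ω => by
    rcases hc1 ω with h | h | h
    · exact Or.inr (Or.inr h)
    · exact Or.inl h
    · exact Or.inr (Or.inl h)) ((C xd).mul_left (C xE)).eq ((C wd).mul_left (C wE)).eq
  have e2 : d * E * z * (d * E)⁻¹ * z⁻¹ = w := by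
    calc d * E * z * (d * E)⁻¹ * z⁻¹ = d * E * ((z * d * z⁻¹) * (z * E * z⁻¹))⁻¹ := by group
      _ = d * E * (E' * d') := by rw [zd, zE, mul_inv_rev, i2, i4]
      _ = d * (E * (E' * d')) := by group
      _ = d * (E * (d' * E')) := by rw [c4]
      _ = d * (E * d') * E' := by group
      _ = d * (d' * E) * E' := by rw [c5]
      _ = w := by rw [hw]; group
  rw [e2] at hc2
  -- `w` is an involution
  have hw2 : w ^ 2 = 1 := by
    have h1 : (d * d') ^ 2 = 1 := prod_sq n1
    have h2 : (E * E') ^ 2 = 1 := prod_sq n6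
    have h3 : Commute (d * d') (E * E') :=
      ((C c2).mul_right (C c3)).mul_left ((C c5).mul_right (C c4))
    rw [hw, h3.mul_pow, h1, h2, one_mul]
  have hw1 : w ≠ 1 := by
    intro h1
    set R := dl e t with hR
    have r1 : E * R = R * E := dl_comm.2 t3
    have r2 : E' * R = R * E' := dl_comm.2 t4
    have h2 : d * d' = E * E' := by
      have h3 := eq_inv_of_mul_eq_one_left (show d * d' * (E * E') = 1 from h1)
      rw [h3, mul_inv_rev, i3, i4, c6]
    have h3 : d * d' * R = R * (d * d') := by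
      rw [h2]
      exact ((C r1).mul_left (C r2)).eq
    -- `d' R d' = d R d`
    have h4 : d' * R * d' = d * R * d := by
      calc d' * R * d' = (d * d) * d' * R * d' := by rw [q1, one_mul]
        _ = d * (d * d' * R) * d' := by group
        _ = d * (R * (d * d')) * d' := by rw [h3]
        _ = d * R * d * (d' * d') := by group
        _ = d * R * d := by rw [q2, mul_one]
    have R2 : R * R = 1 := dl_sq e t
    have braid : ∀ {v : Fin 3510}, nc v t → dl e v * R * dl e v = R * dl e v * R := by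
      intro v hv
      have h5 := dl_cube (e := e) hv
      have h6 : dl e v * R * dl e v * (R * dl e v * R) = 1 := by rw [← h5, pow_succ, pow_two, hR]; group
      have h7 := eq_inv_of_mul_eq_one_left h6
      rw [h7, mul_inv_rev, mul_inv_rev, hR, dl_inv, dl_inv, mul_assoc]
    rw [braid t2, braid t1] at h4
    have h5 : dl e p' = dl e p := by
      have h6 : R * (R * dl e p' * R) * R = R * (R * dl e p * R) * R := by rw [h4]
      have h7 : ∀ v, R * (R * v * R) * R = v := fun v => by
        calc R * (R * v * R) * R = (R * R) * v * (R * R) := by group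
          _ = v := by rw [R2, one_mul, mul_one]
      rwa [h7, h7] at h6
    exact hne (dl_inj h5).symm
  refine dead2 hE hN e hIH Nat.prime_two Nat.prime_three (by norm_num) hw2 hw1 hx hx1 ?_ (fun ω => ?_) (p := p) ?_ hp
  · exact (((C xd).mul_left (C xd')).mul_left ((C xE).mul_left (C xE'))).eq
  · rcases hc2 ω with h | h | h
    · exact Or.inl h
    · exact Or.inr h
    · exact Or.inr h
  · rw [ac_fix]
    exact wd.symm

end

end Cfsg.Agent.H895.RG.Fi22
end

private theorem dce_9aae1d12fa4d : _root_.True := by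
  try have : _root_.True := by simp only [_root_.Cfsg.Agent.H895.RG.Fi22.nc.eq_1]
  try have : _root_.True := by simp only [_root_.Cfsg.Agent.H895.RG.Fi22.dl.eq_1]
  exact _root_.True.intro
end
end
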